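import Groth.Prelude.Def_W4c2conddiscmodels
import Mathlib.Tactic

/-!
Continuants of Hirzebruch–Jung continued fractions (helper74).
-/

set_option autoImplicit false

namespace Groth.Agent.Lib.Helper74

open HJFrac

/-- numerator continuant -/
def hjN : List ℤ → ℤ
  | [] => 1
  | b :: l => b * hjN l - (match l with | [] => 0 | _ :: l' => hjN l')

/-- denominator continuant -/
def hjD : List ℤ → ℤ
  | [] => 0
  | _ :: l => hjN l

theorem hjN_cons (b : ℤ) (l : List ℤ) : hjN (b :: l) = b * hjN l - hjD l := by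
  cases l <;> simp [hjN, hjD]

theorem hjD_cons (b : ℤ) (l : List ℤ) : hjD (b :: l) = hjN l := rfl

theorem hjD_nonneg_lt (L : List ℤ) (hL : ∀ x ∈ L, 2 ≤ x) : 0 ≤ hjD L ∧ hjD L < hjN L := by
  induction L with
  | nil => simp [hjN, hjD]
  | cons b l ih =>
    have hb : 2 ≤ b := hL b (by simp)
    obtain ⟨h1, h2⟩ := ih (fun x hx => hL x (by simp [hx]))
    rw [hjN_cons, hjD_cons]
    constructor
    · linarith
    · nlinarith

theorem hjN_pos (L : List ℤ) (hL : ∀ x ∈ L, 2 ≤ x) : 0 < hjN L := by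
  obtain ⟨h1, h2⟩ := hjD_nonneg_lt L hL
  linarith

theorem hjD_pos (L : List ℤ) (hL : ∀ x ∈ L, 2 ≤ x) (hne : L ≠ []) : 0 < hjD L := by
  cases L with
  | nil => exact absurd rfl hne
  | cons b l =>
    rw [hjD_cons]
    exact hjN_pos l (fun x hx => hL x (by simp [hx]))

theorem hjVal_eq (L : List ℤ) (hL : ∀ x ∈ L, 2 ≤ x) : hjVal L = (hjN L : ℚ) / (hjD L : ℚ) := by
  induction L with
  | nil => simp [hjVal, hjN, hjD]
  | cons b l ih =>
    have hl : ∀ x ∈ l, 2 ≤ x := fun x hx => hL x (by simp [hx])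
    have hpos : (0 : ℚ) < (hjN l : ℚ) := by exact_mod_cast hjN_pos l hl
    rw [hjVal, ih hl, hjN_cons, hjD_cons, inv_div]
    push_cast
    field_simp

theorem hj_isCoprime (L : List ℤ) : IsCoprime (hjN L) (hjD L) := by
  induction L with
  | nil => simp only [hjN, hjD]; exact isCoprime_one_left
  | cons b l ih =>
    rw [hjN_cons, hjD_cons]
    -- IsCoprime (b * N - D) N
    have h1 : IsCoprime (hjD l) (hjN l) := ih.symm
    have h2 : IsCoprime (-(hjD l)) (hjN l) := h1.neg_left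
    have h3 : IsCoprime (-(hjD l) + b * hjN l) (hjN l) := h2.add_mul_right_left b
    have : b * hjN l - hjD l = -(hjD l) + b * hjN l := by ring
    rw [this]
    exact h3

theorem hj_rec (L : List ℤ) : ∀ (μ : ℕ → ℤ),
    (∀ i (h : i < L.length), L[i] * μ (i + 1) = μ i + μ (i + 2)) →
    μ (L.length + 1) = hjN L * μ 1 - hjD L * μ 0 := by
  induction L with
  | nil => intro μ _; simp [hjN, hjD]
  | cons b l ih =>
    intro μ h
    have h0 := h 0 (by simp)
    simp only [List.getElem_cons_zero, zero_add] at h0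
    have hshift := ih (fun i => μ (i + 1)) (by
      intro i hi
      have := h (i + 1) (by simp; omega)
      simpa using this)
    simp only [List.length_cons]
    rw [hshift, hjN_cons, hjD_cons]
    have : μ 2 = b * μ 1 - μ 0 := by linarith
    simp only [zero_add, Nat.reduceAdd]
    rw [this]
    ring

theorem hj_identify (L : List ℤ) (hL : ∀ x ∈ L, 2 ≤ x) (hne : L ≠ []) (n r : ℕ) (hr : 0 < r)
    (hcop : Nat.Coprime r n) (h : (n : ℚ) / r = hjVal L) :
    (n : ℤ) = hjN L ∧ (r : ℤ) = hjD L := by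
  have hD : 0 < hjD L := hjD_pos L hL hne
  have hN : 0 < hjN L := hjN_pos L hL
  rw [hjVal_eq L hL] at h
  have hr' : (r : ℚ) ≠ 0 := by exact_mod_cast hr.ne'
  have hD' : (hjD L : ℚ) ≠ 0 := by exact_mod_cast hD.ne'
  rw [div_eq_div_iff hr' hD'] at h
  have hz : (n : ℤ) * hjD L = hjN L * (r : ℤ) := by exact_mod_cast h
  have hcopZ : IsCoprime (n : ℤ) (r : ℤ) := by
    rw [Int.isCoprime_iff_gcd_eq_one]
    simpa [Int.gcd, Nat.Coprime, Nat.gcd_comm] using hcop
  -- n ∣ N
  have h1 : (n : ℤ) ∣ hjN L := by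
    have : (n : ℤ) ∣ hjN L * r := ⟨hjD L, hz.symm⟩
    exact hcopZ.dvd_of_dvd_mul_right this
  have h2 : hjN L ∣ (n : ℤ) := by
    have : hjN L ∣ (n : ℤ) * hjD L := ⟨r, hz⟩
    exact (hj_isCoprime L).dvd_of_dvd_mul_right this
  have hn0 : (0 : ℤ) ≤ n := Int.natCast_nonneg n
  have hnN : (n : ℤ) = hjN L := Int.dvd_antisymm hn0 hN.le h1 h2
  refine ⟨hnN, ?_⟩
  rw [hnN] at hz
  have := mul_left_cancel₀ hN.ne' hz
  exact this.symm

end Groth.Agent.Lib.Helper74
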